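import Groth.Agent.L13.BlowP1.Embed
import Groth.Agent.L18.AmplePull

/-!
The exceptional divisor of the blow-up in a quasi-regular sequence is projective space over the
quotient, with conormal sheaf `O(1)`.
-/

set_option autoImplicit false
set_option linter.style.haveILetI false
set_option backward.isDefEq.respectTransparency false
universe u

open CategoryTheory CategoryTheory.Limits AlgebraicGeometry TopologicalSpace Opposite
open Groth.L22 Groth.L13.BU Groth.L11.BlowSmooth
open Groth.L18.Frame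
open Groth.Agent.L19.IdealInvertible (io io_smul io_inj)

noncomputable section

namespace Groth.L13.BlowP1

variable {A : Type u} [CommRing A] {n : ℕ} {f : Fin (n + 1) → A} {X : Scheme.{u}}
  {b : X ⟶ Spec (CommRingCat.of A)}

variable (f b) in
/-- The exceptional divisor. -/
abbrev exι : (exIdeal f b).subscheme ⟶ X := (exIdeal f b).subschemeι

theorem exι_app_eq_zero {W : X.Opens} (hW : IsAffineOpen W) (a : Γ(X, W)) :
    (exι f b).app W a = 0 ↔ a ∈ (exIdeal f b).ideal ⟨W, hW⟩ := by
  rw [← (exIdeal f b).ker_subschemeι_app ⟨W, hW⟩]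
  rfl

theorem toGlobal_exι (a : A) :
    ProjUP.toGlobal (exι f b ≫ b) a = (exι f b).appTop (ProjUP.toGlobal b a) := rfl

theorem toGlobal_exι_eq_zero (i : Fin (n + 1)) : ProjUP.toGlobal (exι f b ≫ b) (f i) = 0 := by
  rw [toGlobal_exι]
  refine ((Groth.L18.IdealModule.exact_sections (exIdeal f b) ⊤).2 (ProjUP.toGlobal b (f i))).2 ?_
  exact ⟨sec f b i, (exists_section f b i).choose_spec⟩

variable (f b) in
/-- The structure map of the exceptional divisor over the quotient. -/
def exHom : A ⧸ sI f →+* Γ((exIdeal f b).subscheme, ⊤) :=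
  Ideal.Quotient.lift (sI f) (ProjUP.toGlobal (exι f b ≫ b)) fun a ha => by
    have hle : sI f ≤ RingHom.ker (ProjUP.toGlobal (exι f b ≫ b)) :=
      Ideal.span_le.mpr (by rintro _ ⟨i, rfl⟩; exact toGlobal_exι_eq_zero i)
    exact hle ha

variable (f b) in
/-- The exceptional divisor over the quotient. -/
def exToSpec : (exIdeal f b).subscheme ⟶ Spec (CommRingCat.of (A ⧸ sI f)) :=
  (exIdeal f b).subscheme.toSpecΓ ≫ Spec.map (CommRingCat.ofHom (exHom f b))

theorem toGlobal_exToSpec : ProjUP.toGlobal (exToSpec f b) = exHom f b := by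
  refine RingHom.ext fun a => ?_
  show (exToSpec f b).appTop ((Scheme.ΓSpecIso _).inv a) = _
  rw [exToSpec, Scheme.Hom.comp_appTop, CommRingCat.comp_apply, Scheme.toSpecΓ_appTop]
  let a' := (Scheme.ΓSpecIso (CommRingCat.of (A ⧸ sI f))).inv a
  have h := congr($(Scheme.ΓSpecIso_naturality (CommRingCat.ofHom (exHom f b))) a')
  exact h.trans (congrArg (exHom f b)
    (Iso.inv_hom_id_apply (Scheme.ΓSpecIso (CommRingCat.of (A ⧸ sI f))) a))

theorem gl_exToSpec (V : X.Opens) (a : A) :
    gl (exToSpec f b) (exι f b ⁻¹ᵁ V) (Ideal.Quotient.mk (sI f) a) = (exι f b).app V (gl b V a) := by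
  show ((exIdeal f b).subscheme.presheaf.map _).hom (ProjUP.toGlobal (exToSpec f b) _) = _
  rw [toGlobal_exToSpec, exHom, Ideal.Quotient.lift_mk, toGlobal_exι]
  exact (congr($(Scheme.Hom.naturality (exι f b) (homOfLE (le_top : V ≤ ⊤)).op) (ProjUP.toGlobal b a))).symm

theorem S_chartScalar {R : Type u} [CommRing R] (i : Fin (n + 1)) (c : R) :
    Proj.awayToSection (CohB1.polyGrading n R) (MvPolynomial.X i) (Groth.L18.PS.chartScalar n R i c) =
      gl (Groth.L18.PUP.pr n R) (Groth.L18.PUP.D i) c := by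
  have hD : IsAffineOpen (Groth.L18.PUP.D (R := R) i) :=
    Proj.isAffineOpen_basicOpen _ _ (Groth.L18.PS.X_mem n i) one_pos
  have h : Spec.map (CommRingCat.ofHom (gl (Groth.L18.PUP.pr n R) (Groth.L18.PUP.D i))) =
      Spec.map (CommRingCat.ofHom (Groth.L18.PS.chartScalar n R i) ≫
        Proj.awayToSection (CohB1.polyGrading n R) (MvPolynomial.X i)) := by
    refine (Groth.L18.PUP.toGlobal_fromSpec (Groth.L18.PUP.pr n R) hD).symm.trans ?_
    refine (congrArg (· ≫ Groth.L18.PUP.pr n R) (Groth.L18.PUP.fromSpec_D i)).trans ?_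
    rw [Category.assoc, Spec.map_comp]
    exact congrArg (_ ≫ ·) (Groth.L18.PS.chart_toSpec i)
  exact (congr($(Spec.map_injective h) c)).symm

theorem sfr_self (i : Fin (n + 1)) : sfr f i i = 1 :=
  eq_one_of_mul_eq (chartHom_nonZeroDivisor (sI f) (f i) (mem_pow_one f i))
    (chartHom_eq (sI f) (f i) (mem_pow_one f i) (f i) (mem_pow_one f i))

/-- Bijectivity of `r` on a chart. -/
theorem bijective_app_of_appLE {Z P : Scheme.{u}} (r : Z ⟶ P) {U : P.Opens} {V : Z.Opens} (h : r ⁻¹ᵁ U = V)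
    (hs : Function.Bijective (r.appLE U V h.ge)) : Function.Bijective (r.app U) := by
  subst h
  rwa [Scheme.Hom.appLE_eq_app] at hs

theorem isIso_of_charts {R : Type u} [CommRing R] {Z : Scheme.{u}} (r : Z ⟶ Groth.L18.PUP.P n R)
    (h : ∀ i, IsAffineOpen (r ⁻¹ᵁ Groth.L18.PUP.D i) ∧ Function.Bijective (r.app (Groth.L18.PUP.D i))) :
    IsIso r := by
  suffices MorphismProperty.isomorphisms Scheme.{u} r from this
  rw [IsZariskiLocalAtTarget.iff_of_iSup_eq_top (P := MorphismProperty.isomorphisms Scheme.{u})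
    (fun i => Groth.L18.PUP.D i) (Groth.L18.PS.iSup_chart (n := n) (R := R))]
  intro i
  have hD : IsAffineOpen (Groth.L18.PUP.D (R := R) i) :=
    Proj.isAffineOpen_basicOpen _ _ (Groth.L18.PS.X_mem n i) one_pos
  haveI : IsAffine (Groth.L18.PUP.D (R := R) i).toScheme := hD
  haveI : IsAffine (r ⁻¹ᵁ Groth.L18.PUP.D i).toScheme := (h i).1
  have e' : ∀ U', U' = Groth.L18.PUP.D i → Function.Bijective (r.app U') := fun _ e => e ▸ (h i).2
  haveI : IsIso (r ∣_ Groth.L18.PUP.D i).appTop := by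
    rw [ConcreteCategory.isIso_iff_bijective, morphismRestrict_appTop]
    exact (ConcreteCategory.bijective_of_isIso (Z.presheaf.map _)).comp (e' _ (Scheme.Opens.ι_image_top _))
  show IsIso (r ∣_ Groth.L18.PUP.D i)
  exact ((MorphismProperty.isomorphisms Scheme.{u}).arrow_mk_iso_iff
    (arrowIsoSpecΓOfIsAffine (r ∣_ Groth.L18.PUP.D i))).mpr (inferInstanceAs (IsIso (Spec.map _)))

variable (f b) in
/-- Exceptional divisor of a blow-up in a quasi-regular sequence. -/
theorem exists_exceptional (hb : BlowUp.IsBlowUp b (idealOf (sI f))) (hf : CAlgX.IsQuasiRegular f) :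
    ∃ e : Groth.L18.PUP.P n (A ⧸ sI f) ≅ (exIdeal f b).subscheme,
      Nonempty ((Scheme.Modules.pullback (e.hom ≫ exι f b)).obj (ClSub.idealMod (exIdeal f b)) ≅
        Groth.L18.PUP.O1 n (A ⧸ sI f)) := by
  obtain ⟨C⟩ := nonempty_charts hb
  let I := exIdeal f b
  let ι := exι f b
  let M := ClSub.idealMod I
  have hinv : PicF.IsInvertible M := (Groth.Agent.L19.IdealInvertible.isEffCartier_iff _).2 hb.1
  let V : Fin (n + 1) → I.subscheme.Opens := fun i => ι ⁻¹ᵁ C.W i
  let s : Fin (n + 1) → Γ((Scheme.Modules.pullback ι).obj M, ⊤) := fun i => pull ι M ⊤ (sec f b i)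
  let F : ∀ i, Fin (n + 1) → Γ(I.subscheme, V i) := fun i j => ι.app (C.W i) (C.F i j)
  have hs : ∀ i (W : X.Opens), rs _ (le_top : ι ⁻¹ᵁ W ≤ ⊤) (s i) = pull ι M W (rs M le_top (sec f b i)) :=
    fun i W => pull_rs ι M (le_top : W ≤ ⊤) _
  obtain ⟨r, hr, τ, hWeq, hcoef⟩ := exists_hom_charts (n := n) (exToSpec f b)
    ((Scheme.Modules.pullback ι).obj M) (Groth.L18.Ample.isInvertible_pullback ι hinv) s V
    (fun z => C.cover (ι z)) (fun i => by rw [hs]; exact (frame_sec hinv C i).pullback ι M) F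
    (fun i j => by rw [hs, hs, ← pull_smul, F_smul]) (fun i j => by
      rw [← Scheme.preimage_basicOpen]; exact ι.preimage_mono (C.basicOpen_F i j))
  haveI : IsIso r := by
    refine isIso_of_charts r fun i => ⟨(hWeq i).symm ▸ (C.affine i).preimage ι, ?_⟩
    have hsurjι : Function.Surjective (ι.app (C.W i)) :=
      ((isClosedImmersion_iff_isAffineHom (f := ι)).mp inferInstance).2 _ (C.affine i)
    let mk := Ideal.Quotient.mk ((sI f).map (sh f i))
    let P := MvPolynomial {j // j ≠ i} (A ⧸ sI f)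
    let pe : P ≃+* SC f i ⧸ (sI f).map (sh f i) :=
      RingEquiv.ofBijective (pres f i) ⟨pres_injective f i hf, pres_surjective f i⟩
    let θ : Γ(X, C.W i) →+* P := (pe.symm.toRingHom.comp mk).comp (C.e i).toRingHom
    have hθker : ∀ a, ι.app (C.W i) a = 0 → θ a = 0 := by
      intro a ha
      rw [exι_app_eq_zero (C.affine i), ideal_exIdeal] at ha
      have hle : Ideal.span (Set.range fun j => gl b (C.W i) (f j)) ≤ RingHom.ker θ := by
        rw [Ideal.span_le]
        rintro _ ⟨j, rfl⟩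
        show pe.symm (mk (C.e i (gl b (C.W i) (f j)))) = 0
        rw [C.e_gl, show mk (sh f i (f j)) = 0 from Ideal.Quotient.eq_zero_iff_mem.mpr
          (Ideal.mem_map_of_mem _ (Ideal.subset_span ⟨j, rfl⟩)), map_zero]
      exact hle ha
    let θ' : Γ(I.subscheme, V i) →+* P :=
      RingHom.liftOfSurjective (ι.app (C.W i)).hom hsurjι ⟨θ, fun a ha => hθker a ha⟩
    have hθ' : ∀ a, θ' (ι.app (C.W i) a) = θ a := fun a =>
      RingHom.liftOfRightInverse_comp_apply _ _ _ _ a
    have hpC : ∀ a : A, θ (gl b (C.W i) a) = MvPolynomial.C (Ideal.Quotient.mk (sI f) a) := by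
      intro a
      apply pe.injective
      show pe (pe.symm (mk (C.e i (gl b (C.W i) a)))) = pres f i _
      rw [RingEquiv.apply_symm_apply, C.e_gl, pres, MvPolynomial.eval₂Hom_C]
      rfl
    have hpX : ∀ j (hj : j ≠ i), θ (C.F i j) = MvPolynomial.X ⟨j, hj⟩ := by
      intro j hj
      apply pe.injective
      show pe (pe.symm (mk (C.e i (C.F i j)))) = pres f i _
      rw [RingEquiv.apply_symm_apply, C.e_F, pres, MvPolynomial.eval₂Hom_X']
    let back : P →+* HomogeneousLocalization.Away (CohB1.polyGrading n (A ⧸ sI f))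
        (MvPolynomial.X i : MvPolynomial (Fin (n + 1)) (A ⧸ sI f)) :=
      MvPolynomial.eval₂Hom (Groth.L18.PS.chartScalar n (A ⧸ sI f) i) fun j => Groth.L18.PS.coord i j.1
    let S := Proj.awayToSection (CohB1.polyGrading n (A ⧸ sI f))
      (MvPolynomial.X i : MvPolynomial (Fin (n + 1)) (A ⧸ sI f))
    haveI : IsIso S := (Proj.basicOpenIsoAway (CohB1.polyGrading n (A ⧸ sI f)) _
      (Groth.L18.PS.X_mem n i) one_pos).isIso_hom
    let χ := r.appLE (Groth.L18.PUP.D i) (V i) (hWeq i).ge
    have hcc : ∀ j, χ (S (Groth.L18.PS.coord i j)) = F i j := hcoef i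
    have hsc : ∀ a : A, χ (S (Groth.L18.PS.chartScalar n (A ⧸ sI f) i (Ideal.Quotient.mk _ a))) =
        ι.app (C.W i) (gl b (C.W i) a) := by
      intro a
      have h1 : S (Groth.L18.PS.chartScalar n (A ⧸ sI f) i (Ideal.Quotient.mk _ a)) =
          gl (Groth.L18.PUP.pr n (A ⧸ sI f)) (Groth.L18.PUP.D i) (Ideal.Quotient.mk _ a) :=
        S_chartScalar i (Ideal.Quotient.mk _ a)
      rw [h1, ← gl_exToSpec, appLE_gl r (Groth.L18.PUP.pr n (A ⧸ sI f)) (hWeq i).ge, hr]
    have hleft : back.comp (θ'.comp (χ.hom.comp S.hom)) = RingHom.id _ := by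
      refine Groth.L18.PS.chart_ringHom_ext i (RingHom.ext fun c => ?_) fun j => ?_
      · obtain ⟨a, rfl⟩ := Ideal.Quotient.mk_surjective c
        show back (θ' (χ (S (Groth.L18.PS.chartScalar n (A ⧸ sI f) i (Ideal.Quotient.mk _ a))))) = _
        rw [hsc, hθ', hpC, MvPolynomial.eval₂Hom_C]
        rfl
      · show back (θ' (χ (S (Groth.L18.PS.coord i j)))) = Groth.L18.PS.coord i j
        rw [hcc]
        show back (θ' (ι.app (C.W i) (C.F i j))) = _
        rw [hθ']
        by_cases hj : j = i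
        · subst hj
          have h1 : θ (C.F j j) = 1 := by
            show pe.symm (mk (C.e j (C.F j j))) = 1
            rw [C.e_F, sfr_self, map_one, map_one]
          rw [h1, map_one, Groth.L18.PS.coord_self]
        · rw [hpX j hj, MvPolynomial.eval₂Hom_X']
    have hχ : Function.Bijective χ := by
      refine ⟨fun x y hxy => ?_, fun z => ?_⟩
      · obtain ⟨x', rfl⟩ := (ConcreteCategory.bijective_of_isIso S).2 x
        obtain ⟨y', rfl⟩ := (ConcreteCategory.bijective_of_isIso S).2 y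
        have h1 := RingHom.congr_fun hleft x'
        have h2 := RingHom.congr_fun hleft y'
        simp only [RingHom.comp_apply, RingHom.id_apply] at h1 h2
        have h3 : x' = y' := h1.symm.trans ((congrArg (fun t => back (θ' t)) hxy).trans h2)
        rw [h3]
      · obtain ⟨w, rfl⟩ := hsurjι z
        have : (Subring.comap (ι.app (C.W i)).hom χ.hom.range) = ⊤ := by
          refine C.generated i _ (fun a => ⟨_, hsc a⟩) fun j => ⟨_, hcc j⟩
        obtain ⟨y, hy⟩ := (this ▸ Subring.mem_top w : w ∈ Subring.comap (ι.app (C.W i)).hom χ.hom.range)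
        exact ⟨y, hy⟩
    exact bijective_app_of_appLE r (hWeq i) hχ
  refine ⟨(asIso r).symm, ⟨?_⟩⟩
  exact ((Scheme.Modules.pullbackComp (inv r) ι).app M).symm ≪≫
    (Scheme.Modules.pullback (inv r)).mapIso τ.symm ≪≫
    (Scheme.Modules.pullbackComp (inv r) r).app _ ≪≫
    eqToIso (congrArg (fun g => (Scheme.Modules.pullback g).obj (Groth.L18.PUP.O1 n (A ⧸ sI f)))
      (IsIso.inv_hom_id r)) ≪≫ (Scheme.Modules.pullbackId _).app _

end Groth.L13.BlowP1
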