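import Groth.Agent.L13.BlowP1.Charts
import Groth.Agent.L22.Ideal

/-!
The blow-up in `n + 1` generators is a closed subscheme of projective space, with `O(1)` the ideal
of the exceptional divisor.
-/

set_option autoImplicit false
set_option linter.style.haveILetI false
set_option backward.isDefEq.respectTransparency false
universe u

open CategoryTheory CategoryTheory.Limits AlgebraicGeometry TopologicalSpace Opposite
open Groth.L22 Groth.L13.BU Groth.L11.BlowSmooth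
open Groth.L18.Frame
open Groth.Agent.L19.IdealInvertible (io io_smul io_inj)

noncomputable section

namespace Groth.L13.BlowP1

variable {A : Type u} [CommRing A] {n : ℕ} (f : Fin (n + 1) → A) {X : Scheme.{u}}
  (b : X ⟶ Spec (CommRingCat.of A))

/-- The exceptional ideal. -/
abbrev exIdeal : X.IdealSheafData := (idealOf (sI f)).comap b

theorem ideal_exIdeal {V : X.Opens} (hV : IsAffineOpen V) :
    (exIdeal f b).ideal ⟨V, hV⟩ = Ideal.span (Set.range fun i => gl b V (f i)) := by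
  rw [exIdeal, comap_affHom, affHom_eq_gl, Ideal.map_span, ← Set.range_comp]
  rfl

theorem io_ro (I : X.IdealSheafData) {V W : X.Opens} (h : V ≤ W) (m : Γ(ClSub.idealMod I, W)) :
    io I V (rs (ClSub.idealMod I) h m) = ro h (io I W m) :=
  Groth.Agent.L19.IdealInvertible.io_rs I h m

theorem exists_section (i : Fin (n + 1)) :
    ∃ s : Γ(ClSub.idealMod (exIdeal f b), ⊤),
      io (exIdeal f b) ⊤ s = ProjUP.toGlobal b (f i) := by
  let L := ClSub.idealMod (exIdeal f b)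
  have h : ∀ U : X.affineOpens, ∃ m : Γ(L, U.1), io (exIdeal f b) U.1 m = gl b U.1 (f i) := fun U =>
    (Groth.L18.IdealModule.mem_ideal_iff _ U.2 _).1
      (ideal_exIdeal f b U.2 ▸ Ideal.subset_span ⟨i, rfl⟩)
  choose m hm using h
  let OL : TopCat.Sheaf Ab.{u} X.toTopCat := ⟨L.presheaf, L.isSheaf⟩
  obtain ⟨s, hs, -⟩ := OL.existsUnique_gluing' (fun U : X.affineOpens => U.1) ⊤
    (fun U => homOfLE le_top) (fun x _ => by
      obtain ⟨U, hU, hxU, -⟩ := exists_isAffineOpen_mem_and_subset (x := x) (U := (⊤ : X.Opens)) trivial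
      exact Opens.mem_iSup.mpr ⟨⟨U, hU⟩, hxU⟩) m fun U V => by
    show rs L inf_le_left (m U) = rs L inf_le_right (m V)
    apply io_inj (exIdeal f b)
    rw [io_ro, io_ro, hm, hm, ro_gl, ro_gl]
  refine ⟨s, X.sheaf.eq_of_locally_eq' (fun U : X.affineOpens => U.1) ⊤ (fun U => homOfLE le_top)
    (fun x _ => by
      obtain ⟨U, hU, hxU, -⟩ := exists_isAffineOpen_mem_and_subset (x := x) (U := (⊤ : X.Opens)) trivial
      exact Opens.mem_iSup.mpr ⟨⟨U, hU⟩, hxU⟩) _ _ fun U => ?_⟩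
  show ro (le_top : U.1 ≤ ⊤) (io (exIdeal f b) ⊤ s) = gl b U.1 (f i)
  rw [← io_ro, ← hm U]
  exact congrArg _ (hs U)

/-- The global section `f i` of the exceptional ideal. -/
def sec (i : Fin (n + 1)) : Γ(ClSub.idealMod (exIdeal f b), ⊤) := (exists_section f b i).choose

theorem io_sec (V : X.Opens) (i : Fin (n + 1)) :
    io (exIdeal f b) V (rs _ le_top (sec f b i)) = gl b V (f i) := by
  rw [io_ro, sec, (exists_section f b i).choose_spec]
  rfl

variable {f b}

theorem isFrame_of_span {L : X.IdealSheafData} (hL : PicF.IsInvertible (ClSub.idealMod L)) {W : X.Opens}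
    (s : Γ(ClSub.idealMod L, W))
    (h : ∀ (V : X.Opens) (hV : IsAffineOpen V) (hVW : V ≤ W),
      L.ideal ⟨V, hV⟩ ≤ Ideal.span {io L V (rs _ hVW s)}) :
    IsFrame (ClSub.idealMod L) W s := by
  have key : ∀ x : W, ∃ (V : X.Opens) (hVW : V ≤ W), x.1 ∈ V ∧ IsFrame (ClSub.idealMod L) V (rs _ hVW s) := by
    intro x
    obtain ⟨V₀, e, hxV₀, he⟩ := exists_frame hL x.1
    obtain ⟨V, hV, hxV, hVle⟩ := exists_isAffineOpen_mem_and_subset (x := x.1) (U := V₀ ⊓ W) ⟨hxV₀, x.2⟩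
    have h0 : V ≤ V₀ := fun y hy => (hVle hy).1
    have h1 : V ≤ W := fun y hy => (hVle hy).2
    refine ⟨V, h1, hxV, ?_⟩
    have he' := he.mono h0
    obtain ⟨a, ha⟩ := he'.exists_coeff le_rfl (rs _ h1 s)
    rw [rs_self] at ha
    have hmem := h V hV h1 ((Groth.L18.IdealModule.mem_ideal_iff L hV _).2 ⟨rs _ h0 e, rfl⟩)
    obtain ⟨c, hc⟩ := Ideal.mem_span_singleton'.mp hmem
    have h2 : c • rs (ClSub.idealMod L) h1 s = rs _ h0 e := io_inj L V (by rw [io_smul]; exact hc)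
    rw [← ha, ← mul_smul] at h2
    have h3 : c * a = 1 := he'.inj le_rfl (by rw [rs_self, one_smul]; exact h2)
    rw [← ha]
    exact he'.smul_unit (IsUnit.of_mul_eq_one_right c h3)
  choose V hVW hxV hfr using key
  exact IsFrame.of_cover V hVW (fun x hx => Opens.mem_iSup.mpr ⟨⟨x, hx⟩, hxV _⟩) hfr

theorem isFrame_iso {M N : X.Modules} (τ : M ≅ N) {W : X.Opens} {e : Γ(M, W)} (he : IsFrame M W e) :
    IsFrame N W (τ.hom.app W e) := fun V hV => by
  have h1 : (fun a : Γ(X, V) => a • rs N hV (τ.hom.app W e)) =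
      τ.hom.app V ∘ fun a : Γ(X, V) => a • rs M hV e := by
    funext a
    show a • rs N hV (τ.hom.app W e) = τ.hom.app V (a • rs M hV e)
    rw [Scheme.Modules.Hom.app_smul]
    congr 1
    exact (congr($(τ.hom.mapPresheaf.naturality (homOfLE hV).op) e)).symm
  rw [h1]
  exact (ConcreteCategory.bijective_of_isIso (τ.hom.app V)).comp (he V hV)

variable (hinv : PicF.IsInvertible (ClSub.idealMod (exIdeal f b))) (C : Charts f b)

include hinv in
theorem frame_sec (i : Fin (n + 1)) :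
    IsFrame (ClSub.idealMod (exIdeal f b)) (C.W i) (rs _ le_top (sec f b i)) := by
  refine isFrame_of_span hinv _ fun V hV hVW => ?_
  rw [rs_rs, io_sec, ideal_exIdeal, Ideal.span_le]
  rintro _ ⟨j, rfl⟩
  refine Ideal.mem_span_singleton'.mpr ⟨ro hVW (C.F i j), ?_⟩
  show _ = gl b V (f j)
  rw [← ro_gl b hVW (f j), C.gl_gen, ro_mul, ro_gl]

theorem F_smul (i j : Fin (n + 1)) :
    C.F i j • rs (ClSub.idealMod (exIdeal f b)) (le_top : C.W i ≤ ⊤) (sec f b i) = rs _ le_top (sec f b j) := by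
  apply io_inj (exIdeal f b)
  rw [io_smul, io_sec, io_sec]
  exact (C.gl_gen i j).symm

theorem generatedBy_of_frames {L : X.Modules} {ι : Type*} (s : ι → Γ(L, ⊤))
    (h : ∀ x : X, ∃ (W : X.Opens) (i : ι), x ∈ W ∧ IsFrame L W (rs L le_top (s i))) :
    ProjUP.GeneratedBy L s := by
  intro x
  obtain ⟨W, i, hxW, hW⟩ := h x
  refine eq_top_iff.mpr fun t _ => ?_
  obtain ⟨V, hxV, t, rfl⟩ := L.presheaf.exists_germ_eq t
  have hx' : x ∈ V ⊓ W := ⟨hxV, hxW⟩
  obtain ⟨a, ha⟩ := hW.exists_coeff (inf_le_right : V ⊓ W ≤ W) (rs L inf_le_left t)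
  rw [rs_rs] at ha
  have h1 : L.presheaf.germ V x hxV t = L.presheaf.germ (V ⊓ W) x hx' (rs L inf_le_left t) :=
    (TopCat.Presheaf.germ_res_apply L.presheaf _ _ _ _).symm
  rw [h1, ← ha]
  have h2 : L.presheaf.germ (V ⊓ W) x hx' (a • rs L le_top (s i)) =
      X.presheaf.germ (V ⊓ W) x hx' a • L.presheaf.germ ⊤ x trivial (s i) := by
    rw [← TopCat.Presheaf.germ_res_apply L.presheaf (homOfLE (le_top : V ⊓ W ≤ ⊤)) x hx' (s i)]
    exact PresheafOfModules.germ_smul (R := X.presheaf)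
      (show PresheafOfModules (X.presheaf ⋙ forget₂ CommRingCat RingCat) from L.val) x (V ⊓ W) hx' _ _
  erw [h2]
  exact Submodule.smul_mem _ _ (Submodule.subset_span ⟨i, rfl⟩)

theorem appLE_gl {P : Scheme.{u}} (r : X ⟶ P) (q : P ⟶ Spec (CommRingCat.of A)) {U : P.Opens}
    {V : X.Opens} (h : V ≤ r ⁻¹ᵁ U) (a : A) : r.appLE U V h (gl q U a) = gl (r ≫ q) V a := by
  have hc : P.presheaf.map (homOfLE (le_top : U ≤ ⊤)).op ≫ r.appLE U V h =
      r.appTop ≫ X.presheaf.map (homOfLE (le_top : V ≤ ⊤)).op := by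
    rw [Scheme.Hom.map_appLE]
    simp [Scheme.Hom.appLE, Scheme.Hom.appTop]
  exact congr($hc (ProjUP.toGlobal q a))

variable (f b) in
/-- A morphism to projective space given by charts with frames and coefficients. -/
theorem exists_hom_charts {R : Type u} [CommRing R] {Z : Scheme.{u}} (q : Z ⟶ Spec (CommRingCat.of R))
    (L : Z.Modules) (hL : PicF.IsInvertible L) (s : Fin (n + 1) → Γ(L, ⊤))
    (W : Fin (n + 1) → Z.Opens) (hcov : ∀ z, ∃ i, z ∈ W i)
    (hfr : ∀ i, IsFrame L (W i) (rs L le_top (s i))) (F : ∀ i, Fin (n + 1) → Γ(Z, W i))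
    (hF : ∀ i j, F i j • rs L (le_top : W i ≤ ⊤) (s i) = rs L le_top (s j))
    (hbo : ∀ i j, Z.basicOpen (F i j) ≤ W j) :
    ∃ (r : Z ⟶ Groth.L18.PUP.P n R) (_ : r ≫ Groth.L18.PUP.pr n R = q)
      (_ : (Scheme.Modules.pullback r).obj (Groth.L18.PUP.O1 n R) ≅ L)
      (hW : ∀ i, r ⁻¹ᵁ Groth.L18.PUP.D i = W i),
      ∀ i j, r.appLE (Groth.L18.PUP.D i) (W i) (hW i).ge (Groth.L18.PUP.cc i j) = F i j := by
  obtain ⟨r, hr, τ, hτ⟩ := Groth.L18.PUP.exists_hom q L hL s
    (generatedBy_of_frames _ fun x => by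
      obtain ⟨i, hi⟩ := hcov x
      exact ⟨W i, i, hi, hfr i⟩)
  have hnat : ∀ (V : Z.Opens) (i : Fin (n + 1)),
      τ.hom.app V (rs _ le_top (Groth.L18.PUP.rT r i)) = rs _ le_top (s i) := fun V i => by
    rw [← hτ i]
    exact congr($(τ.hom.mapPresheaf.naturality (homOfLE (le_top : V ≤ ⊤)).op) (Groth.L18.PUP.rT r i))
  have hWle : ∀ i, W i ≤ r ⁻¹ᵁ Groth.L18.PUP.D i := fun i => by
    refine Groth.L18.PUP.le_preimage_of_frame r ?_
    have h1 := isFrame_iso τ.symm (hfr i)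
    rw [← hnat (W i) i] at h1
    rwa [show τ.symm.hom.app (W i) (τ.hom.app (W i) _) = _ from
      congr(($(τ.hom_inv_id)).app (W i) (rs _ le_top (Groth.L18.PUP.rT r i)))] at h1
  have hWeq : ∀ i, r ⁻¹ᵁ Groth.L18.PUP.D i = W i := fun i => by
    refine le_antisymm (fun x hx => ?_) (hWle i)
    obtain ⟨j, hj⟩ := hcov x
    have hx' : x ∈ W j ⊓ r ⁻¹ᵁ Groth.L18.PUP.D i := ⟨hj, hx⟩
    have h1 := isFrame_iso τ (Groth.L18.PUP.rT_frame_le r
      (inf_le_right : W j ⊓ r ⁻¹ᵁ Groth.L18.PUP.D i ≤ _))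
    rw [hnat] at h1
    have h2 := congrArg (rs _ (inf_le_left : W j ⊓ r ⁻¹ᵁ Groth.L18.PUP.D i ≤ W j)) (hF j i)
    rw [rs_smul, rs_rs, rs_rs] at h2
    rw [← h2] at h1
    have h3 := (hfr j).mono (inf_le_left : W j ⊓ r ⁻¹ᵁ Groth.L18.PUP.D i ≤ W j)
    rw [rs_rs] at h3
    have h4 := Z.basicOpen_of_isUnit (isUnit_of_isFrame h3 h1)
    refine hbo j i ?_
    have h5 : x ∈ Z.basicOpen (ro (inf_le_left : W j ⊓ r ⁻¹ᵁ Groth.L18.PUP.D i ≤ W j) (F j i)) :=
      h4.ge hx'
    erw [Scheme.basicOpen_res] at h5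
    exact h5.2
  refine ⟨r, hr, τ, hWeq, fun i j => ?_⟩
  refine (hfr i).inj le_rfl ?_
  rw [rs_self, hF, ← hnat (W i) i, ← Scheme.Modules.Hom.app_smul,
    Groth.L18.PUP.rT_smul_le r (hWle i) j, hnat]

/-- Surjectivity of `r` on a chart. -/
theorem surjective_app_of_appLE {Z P : Scheme.{u}} (r : Z ⟶ P) {U : P.Opens} {V : Z.Opens} (h : r ⁻¹ᵁ U = V)
    (hs : Function.Surjective (r.appLE U V h.ge)) : Function.Surjective (r.app U) := by
  subst h
  rwa [Scheme.Hom.appLE_eq_app] at hs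

theorem isClosedImmersion_of_charts {R : Type u} [CommRing R] {Z : Scheme.{u}} (r : Z ⟶ Groth.L18.PUP.P n R)
    (h : ∀ i, IsAffineOpen (r ⁻¹ᵁ Groth.L18.PUP.D i) ∧ Function.Surjective (r.app (Groth.L18.PUP.D i))) :
    IsClosedImmersion r := by
  rw [IsZariskiLocalAtTarget.iff_of_iSup_eq_top (P := @IsClosedImmersion) (fun i => Groth.L18.PUP.D i)
    (Groth.L18.PS.iSup_chart (n := n) (R := R))]
  intro i
  have hD : IsAffineOpen (Groth.L18.PUP.D (R := R) i) :=
    Proj.isAffineOpen_basicOpen _ _ (Groth.L18.PS.X_mem n i) one_pos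
  haveI : IsAffine (Groth.L18.PUP.D (R := R) i).toScheme := hD
  haveI : IsAffine (r ⁻¹ᵁ Groth.L18.PUP.D i).toScheme := (h i).1
  refine IsClosedImmersion.of_surjective_of_isAffine (r ∣_ Groth.L18.PUP.D i) ?_
  have e' : ∀ U', U' = Groth.L18.PUP.D i → Function.Surjective (r.app U') := fun _ e => e ▸ (h i).2
  rw [morphismRestrict_appTop]
  exact (ConcreteCategory.bijective_of_isIso (Z.presheaf.map _)).surjective.comp
    (e' _ (Scheme.Opens.ι_image_top _))

variable (f b) in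
/-- The blow-up in `n + 1` generators embeds in projective space with `O(1)` the exceptional ideal. -/
theorem exists_embed (hb : BlowUp.IsBlowUp b (idealOf (sI f))) :
    ∃ r : X ⟶ Groth.L18.PUP.P n A, IsClosedImmersion r ∧ r ≫ Groth.L18.PUP.pr n A = b ∧
      Nonempty ((Scheme.Modules.pullback r).obj (Groth.L18.PUP.O1 n A) ≅ ClSub.idealMod (exIdeal f b)) := by
  obtain ⟨C⟩ := nonempty_charts hb
  have hinv : PicF.IsInvertible (ClSub.idealMod (exIdeal f b)) :=
    (Groth.Agent.L19.IdealInvertible.isEffCartier_iff _).2 hb.1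
  obtain ⟨r, hr, τ, hWeq, hcoef⟩ := exists_hom_charts b _ hinv (sec f b) C.W C.cover
    (frame_sec hinv C) C.F (F_smul C) C.basicOpen_F
  refine ⟨r, isClosedImmersion_of_charts r fun i => ⟨(hWeq i).symm ▸ C.affine i, ?_⟩, hr, ⟨τ⟩⟩
  refine surjective_app_of_appLE r (hWeq i) (RingHom.range_eq_top.mp ?_)
  exact C.generated i _ (fun a => ⟨gl (Groth.L18.PUP.pr n A) (Groth.L18.PUP.D i) a,
    (appLE_gl r (Groth.L18.PUP.pr n A) (hWeq i).ge a).trans (by rw [hr])⟩)
    fun j => ⟨Groth.L18.PUP.cc i j, hcoef i j⟩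

end Groth.L13.BlowP1
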