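import Groth.Agent.L13.BlowTwo.Regular
import Groth.Agent.L18.ProjSpaceUP
import Groth.Agent.L19.IdealInvertible

/-!
Affine charts of the blow-up of an affine scheme in finitely many generators.
-/

set_option autoImplicit false
set_option linter.style.haveILetI false
set_option backward.isDefEq.respectTransparency false
universe u

open CategoryTheory CategoryTheory.Limits AlgebraicGeometry TopologicalSpace Opposite
open Groth.L22 Groth.L13.BU Groth.L11.BlowSmooth
open Groth.L18.Frame

noncomputable section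

namespace Groth.L13.BlowP1

variable {A : Type u} [CommRing A] {n : ℕ} (f : Fin (n + 1) → A) {X : Scheme.{u}}
  (b : X ⟶ Spec (CommRingCat.of A))

/-- The function of `a` on an open. -/
abbrev gl (W : X.Opens) : A →+* Γ(X, W) :=
  (X.presheaf.map (homOfLE (le_top : W ≤ ⊤)).op).hom.comp (ProjUP.toGlobal b)

theorem affHom_eq_gl {W : X.Opens} (hW : IsAffineOpen W) : affHom b hW = gl b W := by
  have h : Spec.map (CommRingCat.ofHom (affHom b hW)) = Spec.map (CommRingCat.ofHom (gl b W)) := by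
    rw [← fromSpec_affHom]; exact Groth.L18.PUP.toGlobal_fromSpec b hW
  exact congrArg CommRingCat.Hom.hom (Spec.map_injective h)

theorem ro_gl {V W : X.Opens} (h : V ≤ W) (a : A) : ro h (gl b W a) = gl b V a :=
  ro_ro (le_top : W ≤ ⊤) h (ProjUP.toGlobal b a)

/-- The charts of a blow-up in the ideal of `f`. -/
structure Charts where
  W : Fin (n + 1) → X.Opens
  affine : ∀ i, IsAffineOpen (W i)
  cover : ∀ x : X, ∃ i, x ∈ W i
  F : ∀ i, Fin (n + 1) → Γ(X, W i)
  e : ∀ i, Γ(X, W i) ≃+* SC f i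
  e_gl : ∀ i a, e i (gl b (W i) a) = sh f i a
  e_F : ∀ i j, e i (F i j) = sfr f i j
  basicOpen_F : ∀ i j, X.basicOpen (F i j) ≤ W j

variable {f b}

theorem Charts.gl_gen (C : Charts f b) (i j : Fin (n + 1)) :
    gl b (C.W i) (f j) = C.F i j * gl b (C.W i) (f i) := by
  apply (C.e i).injective
  rw [map_mul, C.e_gl, C.e_gl, C.e_F]
  exact (chartHom_eq (sI f) (f i) (mem_pow_one f i) (f j) (mem_pow_one f j)).trans
    (CommRing.mul_comm (α := SC f i) _ _)

theorem Charts.generated (C : Charts f b) (i : Fin (n + 1)) (S : Subring Γ(X, C.W i))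
    (hA : ∀ a, gl b (C.W i) a ∈ S) (hF : ∀ j, C.F i j ∈ S) : S = ⊤ := by
  refine eq_top_iff.mpr fun z _ => ?_
  obtain ⟨P, hP⟩ := Groth.Agent.L13.BlowTwo.ev_surjective f i (C.e i z)
  suffices h : ∀ P : MvPolynomial (Fin (n + 1)) A, (C.e i).symm (ev f i P) ∈ S by
    have := h P
    rwa [hP, RingEquiv.symm_apply_apply] at this
  intro P
  induction P using MvPolynomial.induction_on with
  | C r =>
    rw [ev, MvPolynomial.eval₂Hom_C, ← C.e_gl, RingEquiv.symm_apply_apply]
    exact hA r
  | add p q hp hq => rw [map_add, map_add]; exact add_mem hp hq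
  | mul_X p j hp =>
    rw [map_mul, map_mul]
    refine mul_mem hp ?_
    rw [ev, MvPolynomial.eval₂Hom_X', ← C.e_F, RingEquiv.symm_apply_apply]
    exact hF j

theorem nonempty_charts (hb : BlowUp.IsBlowUp b (idealOf (sI f))) : Nonempty (Charts f b) := by
  obtain ⟨k, hk, -⟩ := hb.2 _ (reesToSpec (sI f)) (isBlowUp_rees (sI f)).1
  haveI := isIso_of_blowUps hb (isBlowUp_rees (sI f)) k hk
  let j : ∀ i, Spec (CommRingCat.of (SC f i)) ⟶ X := fun i =>
    chartι (sI f) (f i) (mem_pow_one f i) ≫ k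
  have hjb : ∀ i, j i ≫ b = Spec.map (CommRingCat.ofHom (sh f i)) := fun i => by
    simp only [j, Category.assoc, hk]
    exact chartι_reesToSpec _ _ _
  let e₀ : ∀ i, Γ(X, (j i).opensRange) ≅ CommRingCat.of (SC f i) := fun i =>
    X.presheaf.mapIso (eqToIso (Scheme.Hom.image_top_eq_opensRange (j i))).op ≪≫ (j i).appIso ⊤ ≪≫
      Scheme.ΓSpecIso _
  have hle : ∀ i, ⊤ ≤ (j i) ⁻¹ᵁ (j i).opensRange := fun i x _ => ⟨x, rfl⟩
  have he₀ : ∀ i z, (e₀ i).hom z =
      (Scheme.ΓSpecIso (CommRingCat.of (SC f i))).hom ((j i).appLE (j i).opensRange ⊤ (hle i) z) := by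
    intro i z
    have h : (e₀ i).hom = (j i).appLE (j i).opensRange ⊤ (hle i) ≫
        (Scheme.ΓSpecIso (CommRingCat.of (SC f i))).hom := by
      simp only [e₀, Iso.trans_hom, Functor.mapIso_hom, Scheme.Hom.appIso_hom']
      rw [← Category.assoc, Scheme.Hom.map_appLE]
    exact congr($h z)
  have hgl : ∀ i a, (e₀ i).hom (gl b (j i).opensRange a) = sh f i a := by
    intro i a
    rw [he₀]
    have h2 : (j i).appLE (j i).opensRange ⊤ (hle i) (gl b (j i).opensRange a) = (j i ≫ b).appTop
        ((Scheme.ΓSpecIso (CommRingCat.of A)).inv a) := by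
      change ((X.presheaf.map (homOfLE _).op) ≫ (j i).appLE _ _ _) (b.appTop _) = _
      rw [Scheme.Hom.map_appLE]
      simp [Scheme.Hom.appLE, Scheme.Hom.appTop]
    rw [h2, hjb]
    have := congr($(Scheme.ΓSpecIso_naturality (CommRingCat.ofHom (sh f i)))
      ((Scheme.ΓSpecIso (CommRingCat.of A)).inv a))
    exact this.trans (congrArg (sh f i) (Iso.inv_hom_id_apply (Scheme.ΓSpecIso (CommRingCat.of A)) a))
  refine ⟨⟨fun i => (j i).opensRange, fun i => isAffineOpen_opensRange (j i), fun x => ?_,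
    fun i l => (e₀ i).inv (sfr f i l), fun i => (e₀ i).commRingCatIsoToRingEquiv, hgl,
    fun i l => Iso.inv_hom_id_apply (e₀ i) _, fun i l => ?_⟩⟩
  · obtain ⟨p, rfl⟩ := k.homeomorph.surjective x
    obtain ⟨⟨a₀, ha₀⟩, hpa⟩ := Opens.mem_iSup.1 ((iSup_chart (sI f)).ge (Set.mem_univ p))
    obtain ⟨i, hi⟩ : ∃ i : Fin (n + 1), p ∈ Proj.basicOpen (Rees.deg (reesAlgebra (sI f)))
        (mon (sI f) 1 (f i) (mem_pow_one f i)) := by
      by_contra hall
      push Not at hall
      simp only [Proj.mem_basicOpen, not_not] at hall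
      rw [Proj.mem_basicOpen] at hpa
      apply hpa
      obtain ⟨r, hr⟩ := Ideal.mem_span_range_iff_exists_fun.1
        (by simpa using ha₀ : a₀ ∈ Ideal.span (Set.range f))
      have he : mon (sI f) 1 a₀ ha₀ = ∑ i, r i • mon (sI f) 1 (f i) (mem_pow_one f i) := by
        apply Subtype.ext
        subst hr
        simp [mon, map_sum, Polynomial.smul_monomial]
      rw [he]
      refine Ideal.sum_mem _ fun i _ => ?_
      rw [Algebra.smul_def]
      exact Ideal.mul_mem_left _ _ (hall i)
    obtain ⟨w, hw⟩ : p ∈ (chartι (sI f) (f i) (mem_pow_one f i)).opensRange := by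
      rw [Proj.opensRange_awayι]; exact hi
    exact ⟨i, w, congrArg k hw⟩
  · intro x hx
    obtain ⟨w, rfl⟩ : x ∈ Set.range (j i) := X.basicOpen_le _ hx
    have h1 : w ∈ (Spec (CommRingCat.of (SC f i))).basicOpen
        ((Scheme.ΓSpecIso _).inv (sfr f i l)) := by
      have h2 : w ∈ (j i) ⁻¹ᵁ X.basicOpen ((e₀ i).inv (sfr f i l)) := hx
      have h3 : (j i).appLE (j i).opensRange ⊤ (hle i) ((e₀ i).inv (sfr f i l)) =
          (Scheme.ΓSpecIso _).inv (sfr f i l) := by
        apply (Scheme.ΓSpecIso (CommRingCat.of (SC f i))).commRingCatIsoToRingEquiv.injective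
        show (Scheme.ΓSpecIso _).hom _ = (Scheme.ΓSpecIso _).hom _
        rw [← he₀, Iso.inv_hom_id_apply, Iso.inv_hom_id_apply]
      rw [← h3, Scheme.basicOpen_appLE]
      exact ⟨trivial, h2⟩
    rw [basicOpen_eq_of_affine] at h1
    have h4 : w ∈ chartι (sI f) (f i) (mem_pow_one f i) ⁻¹ᵁ
        Proj.basicOpen (Rees.deg (reesAlgebra (sI f))) (mon (sI f) 1 (f l) (mem_pow_one f l)) := by
      rw [Proj.awayι_preimage_basicOpen _ (mon_mem (sI f) 1 (f i) (mem_pow_one f i)) one_pos
        (mon_mem (sI f) 1 (f l) (mem_pow_one f l)) one_pos]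
      have hel : HomogeneousLocalization.Away.isLocalizationElem
          (mon_mem (sI f) 1 (f i) (mem_pow_one f i)) (mon_mem (sI f) 1 (f l) (mem_pow_one f l)) =
          sfr f i l := by
        apply HomogeneousLocalization.val_injective
        rw [sfr, val_frac, HomogeneousLocalization.Away.val_mk]
        congr 1
        exact pow_one _
      rw [hel]
      exact h1
    obtain ⟨v, hv⟩ : chartι (sI f) (f i) (mem_pow_one f i) w ∈
        (chartι (sI f) (f l) (mem_pow_one f l)).opensRange := by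
      rw [Proj.opensRange_awayι]; exact h4
    exact ⟨v, congrArg k hv⟩

end Groth.L13.BlowP1
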